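/-
Commuting involutions in characteristic not two have a common eigenbasis.
-/
import Mathlib.LinearAlgebra.Matrix.ToLin
import Mathlib.LinearAlgebra.Dimension.Constructions
import Mathlib.LinearAlgebra.FiniteDimensional.Basic
import Mathlib.LinearAlgebra.Determinant

set_option autoImplicit false

namespace CfsgLib.Inv2

open Matrix

variable {F : Type*} [Field F] {ι : Type*} [Fintype ι] [DecidableEq ι]

/-- Vectors that are `±1`-eigenvectors of every matrix of the family. -/
def eigenSet {α : Type*} (s : Set α) (ρ : α → Matrix ι ι F) : Set (ι → F) :=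
  {v | ∀ a ∈ s, ρ a *ᵥ v = v ∨ ρ a *ᵥ v = -v}

theorem span_eigenSet {α : Type*} [DecidableEq α] (ρ : α → Matrix ι ι F) (h2 : (2 : F) ≠ 0)
    (hsq : ∀ a, ρ a * ρ a = 1) (hcomm : ∀ a b, ρ a * ρ b = ρ b * ρ a) (s : Finset α) :
    Submodule.span F (eigenSet (s : Set α) ρ) = ⊤ := by
  induction s using Finset.induction_on with
  | empty =>
    refine Submodule.eq_top_iff'.2 fun v => Submodule.subset_span ?_
    intro a ha
    simp at ha
  | insert a s _ ih =>
    refine top_le_iff.1 (ih ▸ Submodule.span_le.2 fun v hv => ?_)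
    have hdec : v = (2 : F)⁻¹ • (v + ρ a *ᵥ v) + (2 : F)⁻¹ • (v - ρ a *ᵥ v) := by
      rw [← smul_add, add_add_sub_cancel, ← two_smul F v, smul_smul, inv_mul_cancel₀ h2, one_smul]
    have hinv : ρ a *ᵥ (ρ a *ᵥ v) = v := by rw [mulVec_mulVec, hsq, one_mulVec]
    have key : ∀ (ε : F), (ε = 1 ∨ ε = -1) →
        v + ε • (ρ a *ᵥ v) ∈ eigenSet ((insert a s : Finset α) : Set α) ρ := by
      intro ε hε b hb
      rw [Finset.coe_insert, Set.mem_insert_iff] at hb
      rcases hb with rfl | hb
      · rcases hε with rfl | rfl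
        · left; rw [mulVec_add, one_smul, hinv, add_comm]
        · right; rw [mulVec_add, mulVec_smul, hinv]; module
      · have e : ρ b *ᵥ (ρ a *ᵥ v) = ρ a *ᵥ (ρ b *ᵥ v) := by
          rw [mulVec_mulVec, mulVec_mulVec, hcomm]
        rcases hv b hb with h | h
        · left; rw [mulVec_add, mulVec_smul, e, h]
        · right; rw [mulVec_add, mulVec_smul, e, h, mulVec_neg]; module
    rw [hdec, SetLike.mem_coe]
    refine Submodule.add_mem _ (Submodule.smul_mem _ _ (Submodule.subset_span ?_))
      (Submodule.smul_mem _ _ (Submodule.subset_span ?_))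
    · simpa using key 1 (Or.inl rfl)
    · simpa [sub_eq_add_neg] using key (-1) (Or.inr rfl)

/-- The common eigenbasis. -/
theorem exists_eigenBasis {α : Type*} [Finite α] (ρ : α → Matrix ι ι F) (h2 : (2 : F) ≠ 0)
    (hsq : ∀ a, ρ a * ρ a = 1) (hcomm : ∀ a b, ρ a * ρ b = ρ b * ρ a) :
    ∃ (b : Module.Basis ι F (ι → F)) (χ : ι → α → F),
      (∀ i a, χ i a = 1 ∨ χ i a = -1) ∧ ∀ i a, ρ a *ᵥ b i = χ i a • b i := by
  classical
  let _ := Fintype.ofFinite α
  have hspan : Submodule.span F (eigenSet (Set.univ : Set α) ρ) = ⊤ := by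
    have := span_eigenSet ρ h2 hsq hcomm Finset.univ
    rwa [Finset.coe_univ] at this
  let b₀ := Module.Basis.ofSpan hspan.ge
  have : Fintype _ := FiniteDimensional.fintypeBasisIndex b₀
  have hcard : Fintype.card _ = Fintype.card ι :=
    (Module.finrank_eq_card_basis b₀).symm.trans (Module.finrank_fintype_fun_eq_card F)
  let b := b₀.reindex (Fintype.equivOfCardEq hcard)
  have hb : ∀ i, b i ∈ eigenSet (Set.univ : Set α) ρ := fun i => by
    rw [Module.Basis.reindex_apply]
    exact Module.Basis.ofSpan_subset hspan.ge ⟨_, rfl⟩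
  refine ⟨b, fun i a => if ρ a *ᵥ b i = b i then 1 else -1, fun i a => ?_, fun i a => ?_⟩
  · dsimp only; split_ifs <;> simp
  · dsimp only
    split_ifs with h
    · rw [one_smul, h]
    · rw [neg_one_smul]
      exact (hb i a (Set.mem_univ a)).resolve_left h

/-- The eigenvalues determine the matrix. -/
theorem eq_of_eigen (b : Module.Basis ι F (ι → F)) {A B : Matrix ι ι F} {c : ι → F}
    (hA : ∀ i, A *ᵥ b i = c i • b i) (hB : ∀ i, B *ᵥ b i = c i • b i) : A = B :=
  Matrix.toLin'.injective (b.ext fun i => by simp [Matrix.toLin'_apply, hA, hB])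

/-- The determinant is the product of the eigenvalues. -/
theorem det_of_eigen (b : Module.Basis ι F (ι → F)) {A : Matrix ι ι F} {c : ι → F}
    (hA : ∀ i, A *ᵥ b i = c i • b i) : A.det = ∏ i, c i := by
  rw [← LinearMap.det_toLin', ← LinearMap.det_toMatrix b,
    show LinearMap.toMatrix b b (Matrix.toLin' A) = Matrix.diagonal c from ?_, Matrix.det_diagonal]
  ext i j
  rw [LinearMap.toMatrix_apply, Matrix.toLin'_apply, hA, map_smul, Module.Basis.repr_self,
    Finsupp.smul_apply, Matrix.diagonal_apply, smul_eq_mul]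
  by_cases h : i = j
  · subst h; simp
  · rw [Finsupp.single_eq_of_ne (by tauto), mul_zero, if_neg h]

end CfsgLib.Inv2
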