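/-
Normal form of square-zero matrices.
-/
import Mathlib.LinearAlgebra.Matrix.ToLin
import Mathlib.LinearAlgebra.Matrix.Rank
import Mathlib.LinearAlgebra.Matrix.SpecialLinearGroup
import Mathlib.LinearAlgebra.Dimension.Constructions
import Mathlib.LinearAlgebra.FiniteDimensional.Basic
import Mathlib.FieldTheory.Finite.Basic
import Mathlib.LinearAlgebra.Basis.VectorSpace
import Mathlib.LinearAlgebra.FreeModule.Finite.Basic

set_option autoImplicit false

namespace CfsgLib.Inv2

open Matrix

variable {F : Type*} [Field F] {n : ℕ}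

/-- The square-zero normal form of rank `l`. -/
def sqZeroForm (F : Type*) [Field F] (n l : ℕ) : Matrix (Fin n) (Fin n) F :=
  Matrix.of (fun i j : Fin n => if j.val < l ∧ i.val = j.val + (n - l) then (1 : F) else 0)

theorem exists_sqZero_conj (T : Matrix (Fin n) (Fin n) F) (hT : T * T = 0) :
    2 * T.rank ≤ n ∧ ∃ P : GL (Fin n) F,
      T * (P : Matrix (Fin n) (Fin n) F) = (P : Matrix (Fin n) (Fin n) F) * sqZeroForm F n T.rank := by
  classical
  set f := T.mulVecLin with hf
  have hff : ∀ v, f (f v) = 0 := fun v => by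
    simp only [hf, Matrix.mulVecLin_apply, Matrix.mulVec_mulVec, hT, Matrix.zero_mulVec]
  have hle : LinearMap.range f ≤ LinearMap.ker f := by
    rintro _ ⟨v, rfl⟩
    exact hff v
  have hr : Module.finrank F (LinearMap.range f) = T.rank := rfl
  have hrk := LinearMap.finrank_range_add_finrank_ker f
  rw [Module.finrank_fintype_fun_eq_card, Fintype.card_fin] at hrk
  have h2 : 2 * T.rank ≤ n := by
    have := Submodule.finrank_mono hle
    omega
  refine ⟨h2, ?_⟩
  obtain ⟨U, hU⟩ := Submodule.exists_isCompl (LinearMap.ker f)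
  have hUd : Module.finrank F U = T.rank := by
    have h := Submodule.finrank_add_eq_of_isCompl hU
    rw [Module.finrank_fintype_fun_eq_card, Fintype.card_fin] at h
    omega
  obtain ⟨W, hW⟩ := Submodule.exists_isCompl ((LinearMap.range f).comap (LinearMap.ker f).subtype)
  have hWd : Module.finrank F W = n - 2 * T.rank := by
    have h := Submodule.finrank_add_eq_of_isCompl hW
    rw [(Submodule.comapSubtypeEquivOfLe hle).finrank_eq] at h
    omega
  let u := Module.finBasisOfFinrankEq F U hUd
  have : Module.Free F W := Module.Free.of_divisionRing F W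
  let w := Module.finBasisOfFinrankEq F W hWd
  let v : Fin n → (Fin n → F) := fun j =>
    if h : j.val < T.rank then (u ⟨j.val, h⟩ : Fin n → F)
    else if h' : j.val < n - T.rank then (((w ⟨j.val - T.rank, by omega⟩ : W) : LinearMap.ker f) : Fin n → F)
    else f (u ⟨j.val - (n - T.rank), by have := j.2; omega⟩ : Fin n → F)
  have hspan : ⊤ ≤ Submodule.span F (Set.range v) := by
    have hU' : U ≤ Submodule.span F (Set.range v) := by
      intro x hx
      have : (⟨x, hx⟩ : U) ∈ Submodule.span F (Set.range u) := by rw [u.span_eq]; trivial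
      have h := Submodule.apply_mem_span_image_of_mem_span U.subtype this
      refine Submodule.span_mono ?_ h
      rintro _ ⟨_, ⟨k, rfl⟩, rfl⟩
      exact ⟨⟨k.val, by omega⟩, by simp [v, k.2]⟩
    have hR : LinearMap.range f ≤ Submodule.span F (Set.range v) := by
      rintro _ ⟨x, rfl⟩
      obtain ⟨k, hk, y, hy, rfl⟩ := Submodule.codisjoint_iff_exists_add_eq.1 hU.codisjoint x |>
        fun ⟨a, b, ha, hb, e⟩ => (⟨a, ha, b, hb, e⟩ : ∃ a ∈ LinearMap.ker f, ∃ b ∈ U, a + b = x)
      rw [map_add, LinearMap.mem_ker.1 hk, zero_add]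
      have : (⟨y, hy⟩ : U) ∈ Submodule.span F (Set.range u) := by rw [u.span_eq]; trivial
      have h := Submodule.apply_mem_span_image_of_mem_span (f.comp U.subtype) this
      refine Submodule.span_mono ?_ h
      rintro _ ⟨_, ⟨k, rfl⟩, rfl⟩
      have hk := k.2
      refine ⟨⟨k.val + (n - T.rank), by omega⟩, ?_⟩
      simp only [v]
      rw [dif_neg (by omega), dif_neg (by omega)]
      simp only [LinearMap.comp_apply, Submodule.coe_subtype]
      congr 3
      exact Fin.ext (by simp)
    have hW' : ∀ x ∈ W, (x : Fin n → F) ∈ Submodule.span F (Set.range v) := by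
      intro x hx
      have : (⟨x, hx⟩ : W) ∈ Submodule.span F (Set.range w) := by rw [w.span_eq]; trivial
      have h := Submodule.apply_mem_span_image_of_mem_span ((LinearMap.ker f).subtype.comp W.subtype) this
      refine Submodule.span_mono ?_ h
      rintro _ ⟨_, ⟨k, rfl⟩, rfl⟩
      have hk := k.2
      refine ⟨⟨k.val + T.rank, by omega⟩, ?_⟩
      simp only [v]
      rw [dif_neg (by omega), dif_pos (by omega)]
      simp
    have hker : LinearMap.ker f ≤ Submodule.span F (Set.range v) := by
      intro x hx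
      obtain ⟨a, b, ha, hb, e⟩ := Submodule.codisjoint_iff_exists_add_eq.1 hW.codisjoint ⟨x, hx⟩
      rw [show x = (a : Fin n → F) + b from (congrArg Subtype.val e).symm]
      exact add_mem (hR ha) (hW' b hb)
    intro x _
    obtain ⟨a, b, ha, hb, rfl⟩ := Submodule.codisjoint_iff_exists_add_eq.1 hU.codisjoint x
    exact add_mem (hker ha) (hU' hb)
  let b := basisOfTopLeSpanOfCardEqFinrank v hspan
    (by rw [Module.finrank_fintype_fun_eq_card])
  let M : Matrix (Fin n) (Fin n) F := Matrix.of fun i j => v j i
  have hM : IsUnit M := by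
    rw [← Matrix.linearIndependent_cols_iff_isUnit]
    have := b.linearIndependent
    rwa [show ⇑b = v from coe_basisOfTopLeSpanOfCardEqFinrank v hspan _] at this
  refine ⟨hM.unit, ?_⟩
  show T * M = M * sqZeroForm F n T.rank
  ext i j
  have hL : (T * M) i j = f (v j) i := rfl
  rw [hL, Matrix.mul_apply]
  by_cases hj : j.val < T.rank
  · have hj2 : j.val + (n - T.rank) < n := by omega
    rw [Finset.sum_eq_single ⟨j.val + (n - T.rank), hj2⟩]
    · simp only [M, sqZeroForm, Matrix.of_apply]
      rw [if_pos ⟨hj, trivial⟩, mul_one]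
      simp only [v, dif_pos hj]
      rw [dif_neg (by omega), dif_neg (by omega)]
      refine congrArg (fun k => f (u k : Fin n → F) i) (Fin.ext ?_)
      simp
    · intro k _ hk
      simp only [sqZeroForm, Matrix.of_apply]
      rw [if_neg (fun h => hk (Fin.ext h.2)), mul_zero]
    · intro h; exact absurd (Finset.mem_univ _) h
  · rw [Finset.sum_eq_zero fun k _ => by
      simp only [sqZeroForm, Matrix.of_apply]
      rw [if_neg (fun h => hj h.1), mul_zero]]
    simp only [v, dif_neg hj]
    by_cases hj2 : j.val < n - T.rank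
    · rw [dif_pos hj2]
      exact congrFun (LinearMap.mem_ker.1 (W.subtype (w _)).2) i
    · rw [dif_neg hj2, hff]
      rfl

/-- Adjust the determinant of a conjugating matrix. -/
theorem exists_sqZero_conj_det [Finite F] [CharP F 2] (T : Matrix (Fin n) (Fin n) F) (hT : T * T = 0)
    (h1 : T ≠ 0) :
    ∃ P : Matrix.SpecialLinearGroup (Fin n) F,
      T * (P : Matrix (Fin n) (Fin n) F) = (P : Matrix (Fin n) (Fin n) F) * sqZeroForm F n T.rank := by
  classical
  obtain ⟨h2, P, hP⟩ := exists_sqZero_conj T hT
  have hpos : 0 < T.rank := by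
    by_contra h
    apply h1
    refine Matrix.toLin'.injective (LinearMap.range_eq_bot.1 (Submodule.finrank_eq_zero.1 ?_) |>.trans
      (map_zero _).symm)
    have : T.rank = 0 := by omega
    exact this
  obtain ⟨c, hc⟩ := (Finite.injective_iff_surjective.1 (CharTwo.sq_injective (R := F)))
    ((P : Matrix (Fin n) (Fin n) F).det)⁻¹
  let i0 : Fin n := ⟨0, by omega⟩
  let i1 : Fin n := ⟨n - T.rank, by omega⟩
  let d : Fin n → F := fun i => if i = i0 ∨ i = i1 then c else 1
  have hd : ∏ i, d i = c ^ 2 := by
    rw [Finset.prod_ite, Finset.prod_const, Finset.prod_const_one, mul_one]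
    congr 1
    rw [show Finset.univ.filter (fun i => i = i0 ∨ i = i1) = {i0, i1} by ext; simp]
    exact Finset.card_pair (fun e => by simp [i0, i1, Fin.ext_iff] at e; omega)
  have hcomm : sqZeroForm F n T.rank * Matrix.diagonal d = Matrix.diagonal d * sqZeroForm F n T.rank := by
    ext i j
    rw [Matrix.mul_diagonal, Matrix.diagonal_mul]
    simp only [sqZeroForm, Matrix.of_apply]
    by_cases h : j.val < T.rank ∧ i.val = j.val + (n - T.rank)
    · rw [if_pos h, one_mul, mul_one]
      simp only [d, i0, i1, Fin.ext_iff]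
      exact if_congr (by omega) rfl rfl
    · rw [if_neg h, zero_mul, mul_zero]
  refine ⟨⟨(P : Matrix (Fin n) (Fin n) F) * Matrix.diagonal d, ?_⟩, ?_⟩
  · rw [Matrix.det_mul, Matrix.det_diagonal, hd, show c ^ 2 = _ from hc]
    exact mul_inv_cancel₀ (Matrix.GeneralLinearGroup.det P).ne_zero
  · show T * ((P : Matrix (Fin n) (Fin n) F) * Matrix.diagonal d) = _
    rw [← mul_assoc, hP, mul_assoc, hcomm, ← mul_assoc]

end CfsgLib.Inv2
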