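/-
Ranks of 0-1 matrices coming from partial injections.
-/
import Mathlib.LinearAlgebra.Matrix.Rank

set_option autoImplicit false

namespace CfsgLib.Inv2

variable {F : Type*} [Field F] {n l : ℕ}

/-- A product through `l` coordinates with an identity `l × l` submatrix has rank `l`. -/
theorem rank_eq_of_factor (N : Matrix (Fin n) (Fin n) F) (A : Matrix (Fin n) (Fin l) F)
    (B : Matrix (Fin l) (Fin n) F) (hN : N = A * B) (r c : Fin l → Fin n)
    (h : N.submatrix r c = 1) : N.rank = l := by
  refine le_antisymm ?_ ?_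
  · rw [hN]
    exact (Matrix.rank_mul_le_left _ _).trans (Matrix.rank_le_width A)
  · have := Matrix.rank_submatrix_le N r c
    rwa [h, Matrix.rank_one, Fintype.card_fin] at this

/-- `1 + N` is an involution in `SL` when `N * N = 0`, `N ≠ 0`, in characteristic two. -/
theorem exists_sl_of_sq_zero [CharP F 2] (N : Matrix (Fin n) (Fin n) F) (hN : N * N = 0)
    (hN0 : N ≠ 0) :
    ∃ a : Matrix.SpecialLinearGroup (Fin n) F, (a : Matrix (Fin n) (Fin n) F) = 1 + N ∧
      orderOf a = 2 := by
  have h2 : (1 + N) * (1 + N) = 1 := by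
    have e : N + N = 0 := by
      ext i j
      exact CharTwo.add_self_eq_zero _
    calc (1 + N) * (1 + N) = 1 + (N + N) + N * N := by
          simp only [add_mul, mul_add, one_mul, mul_one]
          abel
      _ = 1 := by rw [e, hN, add_zero, add_zero]
  have hdet : (1 + N).det = 1 := by
    have := congrArg Matrix.det h2
    rw [Matrix.det_mul, Matrix.det_one] at this
    exact CharTwo.sq_injective (R := F) (by simp only [pow_two, one_mul]; exact this)
  let a : Matrix.SpecialLinearGroup (Fin n) F := ⟨1 + N, hdet⟩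
  refine ⟨a, rfl, ?_⟩
  have : Fact (Nat.Prime 2) := ⟨Nat.prime_two⟩
  refine orderOf_eq_prime ?_ ?_
  · refine Subtype.ext ?_
    rw [Matrix.SpecialLinearGroup.coe_pow, Matrix.SpecialLinearGroup.coe_one, pow_two]
    exact h2
  · intro e
    apply hN0
    have h : (1 + N : Matrix (Fin n) (Fin n) F) = 1 :=
      congrArg (fun x : Matrix.SpecialLinearGroup (Fin n) F => (x : Matrix (Fin n) (Fin n) F)) e
    simpa using h

end CfsgLib.Inv2
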